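import Groth.Agent.Lib.ProjSpace.BaseChange
import Mathlib.AlgebraicGeometry.Morphisms.UniversallyInjective
import Mathlib.FieldTheory.PurelyInseparable.Basic
import Mathlib.RingTheory.Nullstellensatz

/-!
# The complement of a purely inseparable point of the projective line
-/

set_option autoImplicit false
set_option linter.style.haveILetI false
set_option maxHeartbeats 1000000
set_option backward.isDefEq.respectTransparency false
set_option backward.isDefEq.respectTransparency.types false

universe u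

open CategoryTheory CategoryTheory.Limits AlgebraicGeometry MvPolynomial HomogeneousLocalization

noncomputable section

namespace Groth.Agent.P1Form12

open Groth.Agent

theorem idx_one (i : {j : Fin (1 + 1) // j ≠ 1}) : i = ⟨0, by decide⟩ := by
  obtain ⟨⟨v, hv⟩, hi⟩ := i
  refine Subtype.ext (Fin.ext ?_)
  have h1 : v ≠ 1 := fun h => hi (Fin.ext h)
  show v = 0
  omega

section Line

variable (B : Type u) [CommRing B]

/-- The coordinate at infinity. -/
def sVar : MvPolynomial {j : Fin (1 + 1) // j ≠ 1} B := MvPolynomial.X ⟨0, by decide⟩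

theorem preimage_chart_zero :
    (ProjSpace.chart 1 B 1) ⁻¹ᵁ (ProjSpace.chart 1 B 0).opensRange = PrimeSpectrum.basicOpen (sVar B) := by
  rw [ProjSpace.opensRange_chart]
  show (Spec.map (CommRingCat.ofHom (ProjSpace.chartEquiv B 1).symm.toRingHom) ≫
    Proj.awayι (CohB1.polyGrading 1 B) (MvPolynomial.X 1) (ProjSpace.X_mem' 1 B 1) Nat.one_pos) ⁻¹ᵁ _ = _
  rw [Scheme.Hom.comp_preimage, Proj.awayι_preimage_basicOpen (g_deg := ProjSpace.X_mem' 1 B 0) (hm' := Nat.one_pos)]
  have h : (ProjSpace.chartEquiv B (1 : Fin (1 + 1))).symm.toRingHom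
      (HomogeneousLocalization.Away.isLocalizationElem (ProjSpace.X_mem' 1 B 1) (ProjSpace.X_mem' 1 B 0)) = sVar B := by
    show (ProjSpace.chartEquiv B (1 : Fin (1 + 1))).symm _ = _
    rw [RingEquiv.symm_apply_eq, ProjSpace.chartEquiv_apply, sVar, ProjSpace.toAway_X, ProjSpace.coord_eq_mk]
    refine HomogeneousLocalization.val_injective _ ?_
    simp only [HomogeneousLocalization.Away.isLocalizationElem, HomogeneousLocalization.Away.val_mk, pow_one]
  rw [← h]
  rfl

theorem mem_range_chart_zero (w : Spec (CommRingCat.of (MvPolynomial {j : Fin (1 + 1) // j ≠ 1} B))) :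
    ProjSpace.chart 1 B 1 w ∈ Set.range (ProjSpace.chart 1 B 0) ↔ sVar B ∉ w.asIdeal := by
  have h := congrArg (fun O : (Spec (CommRingCat.of (MvPolynomial {j : Fin (1 + 1) // j ≠ 1} B))).Opens => w ∈ O)
    (preimage_chart_zero B)
  exact (iff_of_eq h)

theorem exists_of_not_mem_range {z : CohB1.ProjSpace 1 B} (hz : z ∉ Set.range (ProjSpace.chart 1 B 0)) :
    ∃ w, ProjSpace.chart 1 B 1 w = z ∧ sVar B ∈ w.asIdeal := by
  obtain ⟨i, hi⟩ := ProjSpace.exists_mem_chart 1 B z
  fin_cases i
  · exact absurd hi hz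
  · obtain ⟨w, rfl⟩ := hi
    exact ⟨w, rfl, Classical.not_not.1 fun h => hz ((mem_range_chart_zero B w).2 h)⟩

/-- Outside the first chart each fibre has one point. -/
theorem eq_of_not_mem_range {z z' : CohB1.ProjSpace 1 B} (hz : z ∉ Set.range (ProjSpace.chart 1 B 0))
    (hz' : z' ∉ Set.range (ProjSpace.chart 1 B 0))
    (h : CohB1.ProjSpace.toSpec 1 B z = CohB1.ProjSpace.toSpec 1 B z') : z = z' := by
  obtain ⟨w, rfl, hw⟩ := exists_of_not_mem_range B hz
  obtain ⟨w', rfl, hw'⟩ := exists_of_not_mem_range B hz'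
  rw [← Scheme.Hom.comp_apply, ← Scheme.Hom.comp_apply, ProjSpace.chart_toSpec] at h
  have hc : w.asIdeal.comap C = w'.asIdeal.comap C := congrArg PrimeSpectrum.asIdeal h
  congr 1
  refine PrimeSpectrum.ext ?_
  have key : ∀ (v : Spec (CommRingCat.of (MvPolynomial {j : Fin (1 + 1) // j ≠ 1} B))), sVar B ∈ v.asIdeal →
      ∀ f, f ∈ v.asIdeal ↔ constantCoeff f ∈ v.asIdeal.comap C := by
    intro v hv f
    have hf : f - C (constantCoeff f) ∈ v.asIdeal := by
      induction f using MvPolynomial.induction_on with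
      | C a => simp
      | add p q hp hq =>
        rw [map_add, map_add, show p + q - (C (constantCoeff p) + C (constantCoeff q)) =
          (p - C (constantCoeff p)) + (q - C (constantCoeff q)) by ring]
        exact add_mem hp hq
      | mul_X p i _ =>
        have hi := idx_one i
        rw [map_mul, constantCoeff_X, mul_zero, map_zero, sub_zero, hi]
        exact Ideal.mul_mem_left _ p hv
    rw [Ideal.mem_comap]
    constructor
    · intro h1
      have := sub_mem h1 hf
      rwa [sub_sub_cancel] at this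
    · intro h1
      have := add_mem hf h1
      rwa [sub_add_cancel] at this
  ext f
  rw [key w hw, key w' hw', hc]

end Line

theorem universallyInjective_spec (k L : Type u) [Field k] [Field L] [Algebra k L] [IsPurelyInseparable k L] :
    UniversallyInjective (Spec.map (CommRingCat.ofHom (algebraMap k L))) := by
  refine ((tfae_universallyInjective _).out 1 0).mp ?_
  intro F _ g₁ g₂ hg
  obtain ⟨φ₁, rfl⟩ := Spec.map_surjective g₁
  obtain ⟨φ₂, rfl⟩ := Spec.map_surjective g₂
  simp only [← Spec.map_comp] at hg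
  have h := congrArg CommRingCat.Hom.hom (Spec.map_injective hg)
  congr 1
  exact CommRingCat.hom_ext (IsPurelyInseparable.injective_comp_algebraMap k L F h)

theorem surjective_spec (k L : Type u) [Field k] [Field L] [Algebra k L] :
    Surjective (Spec.map (CommRingCat.ofHom (algebraMap k L))) :=
  ⟨fun _ => ⟨(default : PrimeSpectrum L), Subsingleton.elim (α := PrimeSpectrum k) _ _⟩⟩

variable (K : Type u) [Field K]

local notation "gr" => CohB1.polyGrading 1 K

/-- A linear substitution. -/
def subst (a : Fin (1 + 1) → MvPolynomial (Fin (1 + 1)) K) (ha : ∀ i, IsHomogeneous (a i) 1) : gr →+*ᵍ gr where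
  __ := (aeval a).toRingHom
  map_mem {n} p h := by
    have := IsHomogeneous.aeval h a ha
    simp only [one_mul] at this
    exact this

theorem subst_apply (a : Fin (1 + 1) → MvPolynomial (Fin (1 + 1)) K) (ha : ∀ i, IsHomogeneous (a i) 1)
    (p : MvPolynomial (Fin (1 + 1)) K) : subst K a ha p = aeval a p := rfl

variable {K}
variable (a b : Fin (1 + 1) → MvPolynomial (Fin (1 + 1)) K) (ha : ∀ i, IsHomogeneous (a i) 1)
  (hb : ∀ i, IsHomogeneous (b i) 1) (hab : ∀ i, aeval a (b i) = X i) (hba : ∀ i, aeval b (a i) = X i)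

include hb hab in
theorem irrelevant_le :
    HomogeneousIdeal.irrelevant gr ≤ (HomogeneousIdeal.irrelevant gr).map (subst K a ha) := by
  rw [← toIdeal_le_toIdeal_iff, HomogeneousIdeal.toIdeal_map]
  refine (ProjSpace.irrelevant_le_span 1 K).trans (Ideal.span_le.2 ?_)
  rintro _ ⟨i, rfl⟩
  refine (congrArg (· ∈ _) (hab i)).mp (Ideal.mem_map_of_mem _ ?_)
  exact HomogeneousIdeal.mem_irrelevant_of_mem _ Nat.one_pos (hb i)

/-- The automorphism of the projective line attached to a linear substitution. -/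
def auto : CohB1.ProjSpace 1 K ⟶ CohB1.ProjSpace 1 K :=
  Proj.map (subst K a ha) (irrelevant_le a b ha hb hab)

theorem auto_comp : auto a b ha hb hab ≫ auto b a hb ha hba = 𝟙 _ := by
  refine ((Proj.map_comp (subst K b hb) (subst K a ha) (irrelevant_le b a hb ha hba)
    (irrelevant_le a b ha hb hab)).symm).trans ?_
  have h : (subst K a ha).comp (subst K b hb) = GradedRingHom.id gr := by
    apply GradedRingHom.ext
    intro p
    show aeval a (aeval b p) = p
    rw [← AlgHom.comp_apply, comp_aeval]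
    simp only [hab]
    exact aeval_X_left_apply p
  have key : ∀ (f g : gr →+*ᵍ gr) (hf : HomogeneousIdeal.irrelevant gr ≤ (HomogeneousIdeal.irrelevant gr).map f)
      (hg : HomogeneousIdeal.irrelevant gr ≤ (HomogeneousIdeal.irrelevant gr).map g), f = g →
      Proj.map f hf = Proj.map g hg := by
    rintro f g hf hg rfl; rfl
  exact (key _ _ _ _ h).trans (Proj.map_id)

theorem auto_toSpec : auto a b ha hb hab ≫ CohB1.ProjSpace.toSpec 1 K = CohB1.ProjSpace.toSpec 1 K := by
  refine (Proj.mapAffineOpenCover (subst K a ha) (irrelevant_le a b ha hb hab)).openCover.hom_ext _ _ fun i => ?_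
  obtain ⟨⟨d, hd⟩, f, hf⟩ := i
  show Proj.awayι gr (subst K a ha f) ((subst K a ha).2 hf) hd ≫
      Proj.map (subst K a ha) (irrelevant_le a b ha hb hab) ≫ Proj.toSpecZero gr ≫
        Spec.map (CommRingCat.ofHom (algebraMap K (gr 0))) =
    Proj.awayι gr (subst K a ha f) ((subst K a ha).2 hf) hd ≫ Proj.toSpecZero gr ≫
        Spec.map (CommRingCat.ofHom (algebraMap K (gr 0)))
  rw [Proj.awayι_comp_map_assoc _ _ hd f hf, Proj.awayι_toSpecZero_assoc, Proj.awayι_toSpecZero_assoc,
    ← Spec.map_comp, ← Spec.map_comp, ← Spec.map_comp, ← CommRingCat.ofHom_comp, ← CommRingCat.ofHom_comp,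
    ← CommRingCat.ofHom_comp]
  congr 2
  ext r
  simp only [RingHom.comp_apply, fromZeroRingHom, RingHom.coe_mk, MonoidHom.coe_mk, OneHom.coe_mk, Away.map,
    HomogeneousLocalization.map_mk, HomogeneousLocalization.val_mk]
  simp [subst_apply]

theorem eq_of_not_mem {z z' : CohB1.ProjSpace 1 K} (hz : z ∉ Set.range (ProjSpace.chart 1 K 0))
    (hz' : z' ∉ Set.range (ProjSpace.chart 1 K 0)) : z = z' :=
  eq_of_not_mem_range K hz hz' (Subsingleton.elim (α := PrimeSpectrum K) _ _)

variable [IsAlgClosed K]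

/-- A closed point lies off the basic open of a linear form which is part of a basis. -/
theorem exists_basis (z : CohB1.ProjSpace 1 K) (hz : IsClosed ({z} : Set (CohB1.ProjSpace 1 K))) :
    ∃ (a b : Fin (1 + 1) → MvPolynomial (Fin (1 + 1)) K), (∀ i, IsHomogeneous (a i) 1) ∧
      (∀ i, IsHomogeneous (b i) 1) ∧ (∀ i, aeval a (b i) = X i) ∧ (∀ i, aeval b (a i) = X i) ∧
      z ∉ Proj.basicOpen gr (a 0) := by
  obtain ⟨i, hi⟩ := ProjSpace.exists_mem_chart 1 K z
  obtain ⟨w, rfl⟩ := hi
  have hw : w.asIdeal.IsMaximal := by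
    rw [← PrimeSpectrum.isClosed_singleton_iff_isMaximal]
    have := hz.preimage (ProjSpace.chart 1 K i).continuous
    rwa [← Set.image_singleton, Set.preimage_image_eq _ (ProjSpace.chart 1 K i).isOpenEmbedding.injective] at this
  obtain ⟨c, hc⟩ := MvPolynomial.isMaximal_iff_eq_vanishingIdeal_singleton.1 hw
  obtain ⟨j, hj⟩ : ∃ j : Fin (1 + 1), j ≠ i := exists_ne i
  let t : K := c ⟨j, hj⟩
  let l : MvPolynomial (Fin (1 + 1)) K := X j - C t * X i
  have hl : IsHomogeneous l 1 :=
    (isHomogeneous_X _ _).sub (by simpa using (isHomogeneous_C _ t).mul (isHomogeneous_X K i))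
  have hij : ∀ k : Fin (1 + 1), k = i ∨ k = j := by
    intro k
    fin_cases i <;> fin_cases j <;> fin_cases k <;> first | exact absurd rfl hj | exact Or.inl rfl | exact Or.inr rfl
  refine ⟨fun k => if k = 0 then l else X i, fun k => if k = i then X 1 else X 0 + C t * X 1, ?_, ?_, ?_, ?_, ?_⟩
  · intro k; by_cases h : k = 0 <;> simp only [h, if_true, if_false, hl, isHomogeneous_X]
  · intro k
    by_cases h : k = i <;> simp only [h, if_true, if_false, isHomogeneous_X]
    exact (isHomogeneous_X _ _).add (by simpa using (isHomogeneous_C _ t).mul (isHomogeneous_X K (1 : Fin (1 + 1))))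
  · intro k
    rcases hij k with rfl | rfl
    · simp
    · simp [hj, l]
  · intro k
    fin_cases k
    · simp [l, hj]
    · simp
  · intro hmem
    have hpre : ProjSpace.chart 1 K i ⁻¹ᵁ Proj.basicOpen gr l =
        PrimeSpectrum.basicOpen ((X ⟨j, hj⟩ : MvPolynomial {m : Fin (1 + 1) // m ≠ i} K) - C t) := by
      show (Spec.map (CommRingCat.ofHom (ProjSpace.chartEquiv K i).symm.toRingHom) ≫
        Proj.awayι gr (X i) (ProjSpace.X_mem' 1 K i) Nat.one_pos) ⁻¹ᵁ _ = _
      rw [Scheme.Hom.comp_preimage, Proj.awayι_preimage_basicOpen (g_deg := hl) (hm' := Nat.one_pos)]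
      have h : (ProjSpace.chartEquiv K i).symm.toRingHom
          (HomogeneousLocalization.Away.isLocalizationElem (ProjSpace.X_mem' 1 K i) hl) =
            X ⟨j, hj⟩ - C t := by
        show (ProjSpace.chartEquiv K i).symm _ = _
        rw [RingEquiv.symm_apply_eq, ProjSpace.chartEquiv_apply, map_sub, ProjSpace.toAway_X, ProjSpace.toAway_C]
        refine HomogeneousLocalization.val_injective _ ?_
        rw [HomogeneousLocalization.val_sub, ProjSpace.val_coord, ProjSpace.val_const]
        simp only [HomogeneousLocalization.Away.isLocalizationElem, HomogeneousLocalization.Away.val_mk, pow_one, l]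
        rw [Localization.mk_eq_mk', IsLocalization.mk'_eq_iff_eq_mul, sub_mul, IsLocalization.mk'_spec]
        simp only [← map_mul, ← map_sub]
      rw [← h]
      rfl
    simp only [if_true] at hmem
    have h2 : w ∈ (PrimeSpectrum.basicOpen ((X ⟨j, hj⟩ : MvPolynomial {m : Fin (1 + 1) // m ≠ i} K) - C t)) :=
      hpre ▸ hmem
    apply h2
    rw [hc]
    intro x hx
    rw [Set.mem_singleton_iff] at hx
    subst hx
    simp [t]

/-- The complement of a closed point of the projective line is the affine line. -/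
theorem exists_immersion (z : CohB1.ProjSpace 1 K) (hz : IsClosed ({z} : Set (CohB1.ProjSpace 1 K))) :
    ∃ ψ : Spec (CommRingCat.of (Polynomial K)) ⟶ CohB1.ProjSpace 1 K,
      IsOpenImmersion ψ ∧ Set.range ψ = {z}ᶜ ∧
      ψ ≫ CohB1.ProjSpace.toSpec 1 K = Spec.map (CommRingCat.ofHom (algebraMap K (Polynomial K))) := by
  obtain ⟨a, b, ha, hb, hab, hba, hza⟩ := exists_basis z hz
  have h1 := auto_comp a b ha hb hab hba
  have h2 := auto_comp b a hb ha hba hab
  let e : CohB1.ProjSpace 1 K ≅ CohB1.ProjSpace 1 K := ⟨auto a b ha hb hab, auto b a hb ha hba, h1, h2⟩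
  haveI : Unique {m : Fin (1 + 1) // m ≠ 0} :=
    { default := ⟨1, by decide⟩
      uniq := fun ⟨m, hm⟩ => Subtype.ext (by fin_cases m <;> first | exact absurd rfl hm | rfl) }
  let q := MvPolynomial.uniqueAlgEquiv K {m : Fin (1 + 1) // m ≠ 0}
  haveI : IsIso (CommRingCat.ofHom q.toRingEquiv.toRingHom) :=
    (ConcreteCategory.isIso_iff_bijective _).2 q.bijective
  haveI : IsIso (Spec.map (CommRingCat.ofHom q.toRingEquiv.toRingHom)) := inferInstance
  haveI : IsIso e.inv := ⟨e.hom, e.inv_hom_id, e.hom_inv_id⟩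
  haveI : IsOpenImmersion e.inv := IsOpenImmersion.of_isIso _
  haveI : IsOpenImmersion (ProjSpace.chart 1 K 0) := ProjSpace.isOpenImmersion_chart 1 K 0
  haveI : IsOpenImmersion (ProjSpace.chart 1 K 0 ≫ e.inv) := IsOpenImmersion.comp _ _
  have hnot : e.hom z ∉ Set.range (ProjSpace.chart 1 K 0) := by
    intro h
    apply hza
    have h' : e.hom z ∈ Proj.basicOpen gr (X 0) := by
      rw [← ProjSpace.opensRange_chart]; exact h
    have : z ∈ auto a b ha hb hab ⁻¹ᵁ Proj.basicOpen gr (X 0) := h'
    rw [auto, Proj.map_preimage_basicOpen, subst_apply, aeval_X] at this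
    exact this
  refine ⟨Spec.map (CommRingCat.ofHom q.toRingEquiv.toRingHom) ≫ ProjSpace.chart 1 K 0 ≫ e.inv,
    inferInstance, ?_, ?_⟩
  · have hs : Function.Surjective (Spec.map (CommRingCat.ofHom q.toRingEquiv.toRingHom)) :=
      (inferInstance : Surjective (Spec.map (CommRingCat.ofHom q.toRingEquiv.toRingHom))).surj
    ext p
    simp only [Set.mem_range, Set.mem_compl_iff, Set.mem_singleton_iff, Scheme.Hom.comp_apply]
    constructor
    · rintro ⟨s, rfl⟩ h
      apply hnot
      rw [← h, ← Scheme.Hom.comp_apply e.inv e.hom, e.inv_hom_id]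
      exact ⟨_, rfl⟩
    · intro hp
      have : e.hom p ∈ Set.range (ProjSpace.chart 1 K 0) := by
        by_contra hcon
        have he := eq_of_not_mem hcon hnot
        apply hp
        have := congrArg e.inv he
        rwa [← Scheme.Hom.comp_apply, ← Scheme.Hom.comp_apply, e.hom_inv_id] at this
      obtain ⟨w, hw⟩ := this
      obtain ⟨s, rfl⟩ := hs w
      refine ⟨s, ?_⟩
      rw [hw, ← Scheme.Hom.comp_apply, e.hom_inv_id]
      rfl
  · rw [Category.assoc, Category.assoc, auto_toSpec b a hb ha hba, ProjSpace.chart_toSpec, ← Spec.map_comp,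
      ← CommRingCat.ofHom_comp]
    congr 2
    exact q.toAlgHom.comp_algebraMap

section Main

variable {k : Type u} [Field k] [Algebra k K]

theorem main (P : ↥(CohB1.ProjSpace 1 k)) (hP : IsClosed ({P} : Set ↥(CohB1.ProjSpace 1 k)))
    (hpi : letI := ((CohB1.ProjSpace.toSpec 1 k).residueFieldMap P).hom.toAlgebra
      IsPurelyInseparable ↑((Spec (CommRingCat.of k)).residueField ((CohB1.ProjSpace.toSpec 1 k) P)) ↑((CohB1.ProjSpace 1 k).residueField P))
    [Algebra.IsAlgebraic k K] :
    ∃ e : pullback (@Scheme.Opens.ι (CohB1.ProjSpace 1 k) ⟨{P}ᶜ, hP.isOpen_compl⟩ ≫ CohB1.ProjSpace.toSpec 1 k) (Spec.map (CommRingCat.ofHom (algebraMap k K))) ≅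
        Spec (CommRingCat.of (Polynomial K)),
      e.hom ≫ Spec.map (CommRingCat.ofHom (algebraMap K (Polynomial K))) = pullback.snd _ _ := by
  let U : (CohB1.ProjSpace 1 k).Opens := ⟨{P}ᶜ, hP.isOpen_compl⟩
  let σ := Spec.map (CommRingCat.ofHom (algebraMap k K))
  let m := ProjSpace.map 1 (algebraMap k K)
  have hm : IsPullback m (CohB1.ProjSpace.toSpec 1 K) (CohB1.ProjSpace.toSpec 1 k) σ :=
    ProjSpace.isPullback_map 1 (algebraMap k K)
  haveI : Surjective σ := surjective_spec k K
  haveI : Surjective m := MorphismProperty.of_isPullback hm.flip (inferInstance : Surjective σ)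
  let r := (CohB1.ProjSpace 1 k).fromSpecResidueField P
  -- the structure map of the residue field is universally injective
  haveI : UniversallyInjective (r ≫ CohB1.ProjSpace.toSpec 1 k) := by
    letI := ((CohB1.ProjSpace.toSpec 1 k).residueFieldMap P).hom.toAlgebra
    haveI := hpi
    haveI : UniversallyInjective (Spec.map ((CohB1.ProjSpace.toSpec 1 k).residueFieldMap P)) :=
      universallyInjective_spec ((Spec (CommRingCat.of k)).residueField (CohB1.ProjSpace.toSpec 1 k P))
        ((CohB1.ProjSpace 1 k).residueField P)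
    haveI : Mono ((Spec (CommRingCat.of k)).fromSpecResidueField (CohB1.ProjSpace.toSpec 1 k P)) :=
      inferInstance
    show UniversallyInjective ((CohB1.ProjSpace 1 k).fromSpecResidueField P ≫ CohB1.ProjSpace.toSpec 1 k)
    rw [← (CohB1.ProjSpace.toSpec 1 k).SpecMap_residueFieldMap_fromSpecResidueField P]
    exact MorphismProperty.comp_mem @UniversallyInjective _ _ ‹_› inferInstance
  haveI : UniversallyInjective (pullback.fst m r ≫ CohB1.ProjSpace.toSpec 1 K) :=
    MorphismProperty.of_isPullback (P := @UniversallyInjective)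
      ((IsPullback.of_hasPullback m r).flip.paste_vert hm) ‹_›
  have hsub : Subsingleton (pullback m r : Scheme.{u}) :=
    ⟨fun x y => (pullback.fst m r ≫ CohB1.ProjSpace.toSpec 1 K).injective
      (Subsingleton.elim (α := PrimeSpectrum K) _ _)⟩
  obtain ⟨z, hz⟩ := m.surjective P
  have hpre : m ⁻¹' {P} = {z} := by
    refine Set.eq_singleton_iff_unique_mem.2 ⟨hz, fun y hy => ?_⟩
    have hr : Set.range r = {P} := Scheme.range_fromSpecResidueField _
    have hy' : y ∈ Set.range (pullback.fst m r) := by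
      rw [Scheme.Pullback.range_fst]; show m y ∈ Set.range r; rw [hr]; exact hy
    have hz' : z ∈ Set.range (pullback.fst m r) := by
      rw [Scheme.Pullback.range_fst]; show m z ∈ Set.range r; rw [hr]; exact hz
    obtain ⟨y', rfl⟩ := hy'
    obtain ⟨z', rfl⟩ := hz'
    rw [hsub.elim y' z']
  have hzc : IsClosed ({z} : Set (CohB1.ProjSpace 1 K)) := hpre ▸ hP.preimage m.continuous
  obtain ⟨ψ, hψ, hψr, hψc⟩ := exists_immersion z hzc
  haveI := hψ
  have hle : Set.range (ψ ≫ m) ⊆ Set.range U.ι := by
    rw [Scheme.Opens.range_ι]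
    rintro _ ⟨s, rfl⟩
    have : ψ s ∈ ({z} : Set (CohB1.ProjSpace 1 K))ᶜ := hψr ▸ ⟨s, rfl⟩
    rw [← hpre] at this
    exact this
  let g := IsOpenImmersion.lift U.ι (ψ ≫ m) hle
  have hg : g ≫ U.ι = ψ ≫ m := IsOpenImmersion.lift_fac _ _ _
  have h0 : IsPullback g ψ U.ι m := by
    refine IsOpenImmersion.isPullback _ _ _ _ hg.symm ?_
    ext1
    simp only [Scheme.Hom.coe_opensRange, TopologicalSpace.Opens.map_coe, hψr, Scheme.Opens.range_ι]
    rw [← hpre]
    rfl
  have hbig : IsPullback g (Spec.map (CommRingCat.ofHom (algebraMap K (Polynomial K))))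
      (U.ι ≫ CohB1.ProjSpace.toSpec 1 k) σ := by
    have := h0.paste_vert hm
    rwa [hψc] at this
  exact ⟨hbig.isoPullback.symm, hbig.isoPullback_inv_snd⟩

end Main

end Groth.Agent.P1Form12
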